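import Cfsg.Agent.H659.Rs.Box3
import Cfsg.Agent.H905.SLProper
import Cfsg.Agent.H467.Rs.Psl2

/-!
# S3691, `PSp_8(2^f)`: the factor with `r_6` and `r_3` (helper242)

`m4B : Over4b → BoxP1 → BoxN2 → BoxO8p → BoxO8m → M4B`
-/

set_option autoImplicit false

namespace Cfsg.Agent.H242.Rs

open Cfsg Cfsg.Geo Module Cfsg.Agent.H659.Rs
open scoped MatrixGroups Matrix

/-- a primitive prime of order `k` does not divide `2^n - 1`, `0 < n < k` -/
theorem not_dvd {k r n : ℕ} (h : Pm k r) (hn : 0 < n) (hnk : n < k) : ¬ r ∣ 2 ^ n - 1 := fun h1 =>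
  absurd (Nat.le_of_dvd hn (H467.Rs.dvd_of_dvd_two_pow h h1)) (by omega)

theorem not_dvd_pow {k r i : ℕ} (h : Pm k r) (hk : 0 < k) : ¬ r ∣ 2 ^ i := by
  intro h1
  have h2 := (Nat.prime_dvd_prime_iff_eq h.prime Nat.prime_two).1 (h.prime.dvd_of_dvd_pow h1)
  exact H467.Rs.ne_two hk h h2

theorem not_dvd_n2 {k r f a : ℕ} (h : Pm k r) (hf : 1 ≤ f) (hk : 2 * f < k)
    (ha : a ∣ 2 ^ f * ((2 ^ f) ^ 2 - 1)) : ¬ r ∣ a := by
  intro h1
  rcases (Nat.Prime.dvd_mul h.prime).1 (h1.trans ha) with h2 | h2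
  · exact not_dvd_pow h (by omega) h2
  · rw [← pow_mul, mul_comm f 2] at h2
    exact not_dvd h (by omega) hk h2

theorem dvd_right {r a b : ℕ} (hr : r.Prime) (h : r ∣ a * b) (ha : ¬ r ∣ a) : r ∣ b :=
  ((Nat.Prime.dvd_mul hr).1 h).resolve_left ha

theorem m4B (h : Over4b) (h1 : BoxP1) (h2 : BoxN2) (h3 : BoxO8p) (h4 : BoxO8m) : M4B := by
  intro F _ _ f r s hf hF hr hs C hC hne hno hrC hsC
  obtain ⟨H, hH, hCH⟩ := H905.exists_isMaximalIn_of_lt (lt_of_le_of_ne hC hne)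
  have hrH : r ∣ Nat.card H := hrC.trans (Subgroup.card_dvd_of_le hCH)
  have hsH : s ∣ Nat.card H := hsC.trans (Subgroup.card_dvd_of_le hCH)
  have hpow : ∀ k : ℕ, (2 ^ f) ^ k = 2 ^ (k * f) := fun k => by rw [← pow_mul, mul_comm]
  rcases h hf hF hr hs H hH hrH hsH with ⟨v, hv, hHv⟩ | ⟨W, hW2, hWn, hHW⟩ | ⟨Q, hQ, hp, hHQ⟩
  · -- a point
    obtain ⟨C1, a, t, g1, g2, g3, ⟨i, g4⟩, g5⟩ := h1 (m := 4) (by norm_num) (by omega) hF hr v hv C hC (hCH.trans hHv) hrC
    refine Or.inr (Or.inr (Or.inr ⟨C1, a, t, g1, g2, g3, ⟨i, g4⟩, g5, ?_, ?_⟩))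
    · have h5 : ¬ r ∣ a * t := by
        intro h6
        rcases (Nat.Prime.dvd_mul hr.prime).1 h6 with h7 | h7
        · rw [g4] at h7
          exact not_dvd_pow hr (by omega) h7
        · exact not_dvd hr (by omega) (by omega) (h7.trans g3)
      rw [g2] at hrC
      exact dvd_right hr.prime hrC h5
    · have h5 : ¬ s ∣ a * t := by
        intro h6
        rcases (Nat.Prime.dvd_mul hs.prime).1 h6 with h7 | h7
        · rw [g4] at h7
          exact not_dvd_pow hs (by omega) h7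
        · exact not_dvd hs (by omega) (by omega) (h7.trans g3)
      rw [g2] at hsC
      exact dvd_right hs.prime hsC h5
  · -- a nondegenerate 2-space
    obtain ⟨C1, a, g1, g2, g3⟩ := h2 (m := 4) (by norm_num) W hW2 hWn C hC (hCH.trans hHW)
    rw [hF] at g3
    refine Or.inr (Or.inr (Or.inl ⟨C1, a, g1, g2, g3, ?_, ?_⟩))
    · have h5 := not_dvd_n2 hr (by omega) (by omega) g3
      rw [g2] at hrC
      exact dvd_right hr.prime hrC h5
    · have h5 := not_dvd_n2 hs (by omega) (by omega) g3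
      rw [g2] at hsC
      exact dvd_right hs.prime hsC h5
  · -- orthogonal
    have hv2 : v2 C ≤ 6 * f + 2 + f.factorization 2 ∨ (9 * f ≤ v2 C ∧ v2 C ≤ 9 * f + 1) := by
      by_cases hpl : IsPlusTypeOn Q ⊤
      · rcases h3 hf hF Q hQ hpl C (hCH.trans hHQ) r s hr hs hrC hsC with h5 | h5 | h5
        · exact absurd h5 (hno Q hQ hp)
        · exact Or.inl (by omega)
        · exact Or.inr (by omega)
      · rcases (h4 hf hF Q hQ hpl C (hCH.trans hHQ)).2.2 r s hr hs hrC hsC with h5 | h5 | h5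
        · exact absurd h5 (hno Q hQ hp)
        · exact Or.inl (by omega)
        · exact Or.inr (by omega)
    rcases hv2 with h5 | h5
    · exact Or.inl h5
    · exact Or.inr (Or.inl h5)

end Cfsg.Agent.H242.Rs
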